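import Mathlib
import Cfsg.Agent.TcData.Suz.R0.Tab

set_option autoImplicit false
set_option Elab.async false
set_option maxRecDepth 100000
set_option linter.all false

namespace Cfsg.Agent.TcData.Suz.R0

open Cfsg.Spor Cfsg.Agent.Lib.TcFacts Cfsg.Agent.Lib.TcBits Cfsg.Agent.Lib.TcPres Cfsg.Spor.Suz Cfsg.Agent.TcData.Suz

theorem b0 : Block F al 0 64 58 :=
  block_of_check (k := 6) rfl (by decide +kernel)

theorem b1 : Block F al 64 128 49 :=
  block_of_check (k := 6) rfl (by decide +kernel)

theorem b2 : Block F al 128 192 32 :=
  block_of_check (k := 6) rfl (by decide +kernel)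

theorem b3 : Block F al 192 256 38 :=
  block_of_check (k := 6) rfl (by decide +kernel)

theorem b4 : Block F al 256 320 31 :=
  block_of_check (k := 6) rfl (by decide +kernel)

theorem b5 : Block F al 320 384 12 :=
  block_of_check (k := 6) rfl (by decide +kernel)

theorem b6 : Block F al 384 448 23 :=
  block_of_check (k := 6) rfl (by decide +kernel)

theorem b7 : Block F al 448 512 34 :=
  block_of_check (k := 6) rfl (by decide +kernel)

theorem b8 : Block F al 512 576 18 :=
  block_of_check (k := 6) rfl (by decide +kernel)

theorem b9 : Block F al 576 640 33 :=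
  block_of_check (k := 6) rfl (by decide +kernel)

theorem b10 : Block F al 640 704 0 :=
  block_of_check (k := 6) rfl (by decide +kernel)

theorem b11 : Block F al 704 768 8 :=
  block_of_check (k := 6) rfl (by decide +kernel)

theorem b12 : Block F al 768 832 8 :=
  block_of_check (k := 6) rfl (by decide +kernel)

theorem b13 : Block F al 832 896 23 :=
  block_of_check (k := 6) rfl (by decide +kernel)

theorem b14 : Block F al 896 960 20 :=
  block_of_check (k := 6) rfl (by decide +kernel)

theorem b15 : Block F al 960 1024 11 :=
  block_of_check (k := 6) rfl (by decide +kernel)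

theorem b16 : Block F al 1024 1088 24 :=
  block_of_check (k := 6) rfl (by decide +kernel)

theorem b17 : Block F al 1088 1152 15 :=
  block_of_check (k := 6) rfl (by decide +kernel)

theorem b18 : Block F al 1152 1216 30 :=
  block_of_check (k := 6) rfl (by decide +kernel)

theorem b19 : Block F al 1216 1280 19 :=
  block_of_check (k := 6) rfl (by decide +kernel)

theorem b20 : Block F al 1280 1344 0 :=
  block_of_check (k := 6) rfl (by decide +kernel)

theorem b21 : Block F al 1344 1408 4 :=
  block_of_check (k := 6) rfl (by decide +kernel)

theorem b22 : Block F al 1408 1472 17 :=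
  block_of_check (k := 6) rfl (by decide +kernel)

theorem b23 : Block F al 1472 1536 3 :=
  block_of_check (k := 6) rfl (by decide +kernel)

theorem b24 : Block F al 1536 1600 16 :=
  block_of_check (k := 6) rfl (by decide +kernel)

theorem b25 : Block F al 1600 1664 19 :=
  block_of_check (k := 6) rfl (by decide +kernel)

theorem b26 : Block F al 1664 1728 24 :=
  block_of_check (k := 6) rfl (by decide +kernel)

theorem b27 : Block F al 1728 1792 14 :=
  block_of_check (k := 6) rfl (by decide +kernel)

theorem b28 : Block F al 1792 1856 34 :=
  block_of_check (k := 6) rfl (by decide +kernel)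

theorem b29 : Block F al 1856 1920 3 :=
  block_of_check (k := 6) rfl (by decide +kernel)

theorem b30 : Block F al 1920 1984 25 :=
  block_of_check (k := 6) rfl (by decide +kernel)

theorem b31 : Block F al 1984 2048 39 :=
  block_of_check (k := 6) rfl (by decide +kernel)

theorem b32 : Block F al 2048 2112 4 :=
  block_of_check (k := 6) rfl (by decide +kernel)

theorem b33 : Block F al 2112 2176 22 :=
  block_of_check (k := 6) rfl (by decide +kernel)

theorem b34 : Block F al 2176 2240 14 :=
  block_of_check (k := 6) rfl (by decide +kernel)

theorem b35 : Block F al 2240 2304 52 :=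
  block_of_check (k := 6) rfl (by decide +kernel)

theorem b36 : Block F al 2304 2368 52 :=
  block_of_check (k := 6) rfl (by decide +kernel)

theorem b37 : Block F al 2368 2432 49 :=
  block_of_check (k := 6) rfl (by decide +kernel)

theorem b38 : Block F al 2432 2496 33 :=
  block_of_check (k := 6) rfl (by decide +kernel)

theorem b39 : Block F al 2496 2560 31 :=
  block_of_check (k := 6) rfl (by decide +kernel)

theorem b40 : Block F al 2560 2624 34 :=
  block_of_check (k := 6) rfl (by decide +kernel)

theorem b41 : Block F al 2624 2688 19 :=
  block_of_check (k := 6) rfl (by decide +kernel)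

theorem b42 : Block F al 2688 2752 18 :=
  block_of_check (k := 6) rfl (by decide +kernel)

theorem b43 : Block F al 2752 2816 27 :=
  block_of_check (k := 6) rfl (by decide +kernel)

theorem b44 : Block F al 2816 2880 44 :=
  block_of_check (k := 6) rfl (by decide +kernel)

theorem b45 : Block F al 2880 2944 28 :=
  block_of_check (k := 6) rfl (by decide +kernel)

theorem b46 : Block F al 2944 3008 38 :=
  block_of_check (k := 6) rfl (by decide +kernel)

theorem b47 : Block F al 3008 3072 41 :=
  block_of_check (k := 6) rfl (by decide +kernel)

theorem b48 : Block F al 3072 3136 36 :=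
  block_of_check (k := 6) rfl (by decide +kernel)

theorem b49 : Block F al 3136 3200 10 :=
  block_of_check (k := 6) rfl (by decide +kernel)

theorem b50 : Block F al 3200 3264 22 :=
  block_of_check (k := 6) rfl (by decide +kernel)

theorem b51 : Block F al 3264 3328 10 :=
  block_of_check (k := 6) rfl (by decide +kernel)

theorem b52 : Block F al 3328 3392 14 :=
  block_of_check (k := 6) rfl (by decide +kernel)

theorem b53 : Block F al 3392 3456 10 :=
  block_of_check (k := 6) rfl (by decide +kernel)

theorem b54 : Block F al 3456 3520 12 :=
  block_of_check (k := 6) rfl (by decide +kernel)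

theorem b55 : Block F al 3520 3584 18 :=
  block_of_check (k := 6) rfl (by decide +kernel)

theorem b56 : Block F al 3584 3648 10 :=
  block_of_check (k := 6) rfl (by decide +kernel)

theorem b57 : Block F al 3648 3712 12 :=
  block_of_check (k := 6) rfl (by decide +kernel)

theorem b58 : Block F al 3712 3776 1 :=
  block_of_check (k := 6) rfl (by decide +kernel)

theorem b59 : Block F al 3776 3840 18 :=
  block_of_check (k := 6) rfl (by decide +kernel)

theorem b60 : Block F al 3840 3904 13 :=
  block_of_check (k := 6) rfl (by decide +kernel)

theorem b61 : Block F al 3904 3968 27 :=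
  block_of_check (k := 6) rfl (by decide +kernel)

theorem b62 : Block F al 3968 4032 23 :=
  block_of_check (k := 6) rfl (by decide +kernel)

theorem b63 : Block F al 4032 4096 13 :=
  block_of_check (k := 6) rfl (by decide +kernel)

theorem b64 : Block F al 4096 4160 16 :=
  block_of_check (k := 6) rfl (by decide +kernel)

theorem b65 : Block F al 4160 4224 16 :=
  block_of_check (k := 6) rfl (by decide +kernel)

theorem b66 : Block F al 4224 4288 26 :=
  block_of_check (k := 6) rfl (by decide +kernel)

theorem b67 : Block F al 4288 4352 17 :=
  block_of_check (k := 6) rfl (by decide +kernel)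

theorem b68 : Block F al 4352 4416 27 :=
  block_of_check (k := 6) rfl (by decide +kernel)

theorem b69 : Block F al 4416 4480 15 :=
  block_of_check (k := 6) rfl (by decide +kernel)

theorem b70 : Block F al 4480 4544 18 :=
  block_of_check (k := 6) rfl (by decide +kernel)

theorem b71 : Block F al 4544 4608 5 :=
  block_of_check (k := 6) rfl (by decide +kernel)

theorem b72 : Block F al 4608 4672 1 :=
  block_of_check (k := 6) rfl (by decide +kernel)

theorem b73 : Block F al 4672 4736 10 :=
  block_of_check (k := 6) rfl (by decide +kernel)

theorem b74 : Block F al 4736 4800 3 :=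
  block_of_check (k := 6) rfl (by decide +kernel)

theorem b75 : Block F al 4800 4864 4 :=
  block_of_check (k := 6) rfl (by decide +kernel)

theorem b76 : Block F al 4864 4928 2 :=
  block_of_check (k := 6) rfl (by decide +kernel)

theorem b77 : Block F al 4928 4992 2 :=
  block_of_check (k := 6) rfl (by decide +kernel)

theorem b78 : Block F al 4992 5056 5 :=
  block_of_check (k := 6) rfl (by decide +kernel)

theorem b79 : Block F al 5056 5120 2 :=
  block_of_check (k := 6) rfl (by decide +kernel)

theorem b80 : Block F al 5120 5184 5 :=
  block_of_check (k := 6) rfl (by decide +kernel)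

theorem b81 : Block F al 5184 5248 1 :=
  block_of_check (k := 6) rfl (by decide +kernel)

theorem b82 : Block F al 5248 5312 6 :=
  block_of_check (k := 6) rfl (by decide +kernel)

theorem b83 : Block F al 5312 5376 4 :=
  block_of_check (k := 6) rfl (by decide +kernel)

theorem b84 : Block F al 5376 5440 3 :=
  block_of_check (k := 6) rfl (by decide +kernel)

theorem b85 : Block F al 5440 5504 1 :=
  block_of_check (k := 6) rfl (by decide +kernel)

theorem b86 : Block F al 5504 5568 1 :=
  block_of_check (k := 6) rfl (by decide +kernel)

theorem b87 : Block F al 5568 5632 1 :=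
  block_of_check (k := 6) rfl (by decide +kernel)

theorem b88 : Block F al 5632 5696 0 :=
  block_of_check (k := 6) rfl (by decide +kernel)

theorem b89 : Block F al 5696 5760 1 :=
  block_of_check (k := 6) rfl (by decide +kernel)

theorem b90 : Block F al 5760 5824 4 :=
  block_of_check (k := 6) rfl (by decide +kernel)

theorem b91 : Block F al 5824 5888 20 :=
  block_of_check (k := 6) rfl (by decide +kernel)

theorem b92 : Block F al 5888 5952 4 :=
  block_of_check (k := 6) rfl (by decide +kernel)

theorem b93 : Block F al 5952 6016 7 :=
  block_of_check (k := 6) rfl (by decide +kernel)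

theorem b94 : Block F al 6016 6080 7 :=
  block_of_check (k := 6) rfl (by decide +kernel)

theorem b95 : Block F al 6080 6144 4 :=
  block_of_check (k := 6) rfl (by decide +kernel)

theorem b96 : Block F al 6144 6208 3 :=
  block_of_check (k := 6) rfl (by decide +kernel)

theorem b97 : Block F al 6208 6272 10 :=
  block_of_check (k := 6) rfl (by decide +kernel)

theorem b98 : Block F al 6272 6336 0 :=
  block_of_check (k := 6) rfl (by decide +kernel)

theorem b99 : Block F al 6336 6400 11 :=
  block_of_check (k := 6) rfl (by decide +kernel)

theorem b100 : Block F al 6400 6464 1 :=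
  block_of_check (k := 6) rfl (by decide +kernel)

theorem b101 : Block F al 6464 6528 0 :=
  block_of_check (k := 6) rfl (by decide +kernel)

theorem b102 : Block F al 6528 6592 1 :=
  block_of_check (k := 6) rfl (by decide +kernel)

theorem b103 : Block F al 6592 6656 7 :=
  block_of_check (k := 6) rfl (by decide +kernel)

theorem b104 : Block F al 6656 6720 3 :=
  block_of_check (k := 6) rfl (by decide +kernel)

theorem b105 : Block F al 6720 6784 4 :=
  block_of_check (k := 6) rfl (by decide +kernel)

theorem b106 : Block F al 6784 6848 3 :=
  block_of_check (k := 6) rfl (by decide +kernel)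

theorem b107 : Block F al 6848 6912 4 :=
  block_of_check (k := 6) rfl (by decide +kernel)

theorem b108 : Block F al 6912 6976 11 :=
  block_of_check (k := 6) rfl (by decide +kernel)

theorem b109 : Block F al 6976 7040 1 :=
  block_of_check (k := 6) rfl (by decide +kernel)

theorem b110 : Block F al 7040 7104 2 :=
  block_of_check (k := 6) rfl (by decide +kernel)

theorem b111 : Block F al 7104 7168 4 :=
  block_of_check (k := 6) rfl (by decide +kernel)

theorem b112 : Block F al 7168 7232 3 :=
  block_of_check (k := 6) rfl (by decide +kernel)

theorem b113 : Block F al 7232 7296 0 :=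
  block_of_check (k := 6) rfl (by decide +kernel)

theorem b114 : Block F al 7296 7360 0 :=
  block_of_check (k := 6) rfl (by decide +kernel)

theorem b115 : Block F al 7360 7424 4 :=
  block_of_check (k := 6) rfl (by decide +kernel)

theorem b116 : Block F al 7424 7488 0 :=
  block_of_check (k := 6) rfl (by decide +kernel)

theorem b117 : Block F al 7488 7552 0 :=
  block_of_check (k := 6) rfl (by decide +kernel)

theorem b118 : Block F al 7552 7616 1 :=
  block_of_check (k := 6) rfl (by decide +kernel)

theorem b119 : Block F al 7616 7680 1 :=
  block_of_check (k := 6) rfl (by decide +kernel)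

theorem b120 : Block F al 7680 7744 0 :=
  block_of_check (k := 6) rfl (by decide +kernel)

theorem b121 : Block F al 7744 7808 3 :=
  block_of_check (k := 6) rfl (by decide +kernel)

theorem b122 : Block F al 7808 7872 0 :=
  block_of_check (k := 6) rfl (by decide +kernel)

theorem b123 : Block F al 7872 7936 1 :=
  block_of_check (k := 6) rfl (by decide +kernel)

theorem b124 : Block F al 7936 8000 1 :=
  block_of_check (k := 6) rfl (by decide +kernel)

theorem b125 : Block F al 8000 8064 2 :=
  block_of_check (k := 6) rfl (by decide +kernel)

theorem b126 : Block F al 8064 8128 2 :=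
  block_of_check (k := 6) rfl (by decide +kernel)

theorem b127 : Block F al 8128 8192 0 :=
  block_of_check (k := 6) rfl (by decide +kernel)

theorem b128 : Block F al 8192 8256 1 :=
  block_of_check (k := 6) rfl (by decide +kernel)

theorem b129 : Block F al 8256 8320 0 :=
  block_of_check (k := 6) rfl (by decide +kernel)

theorem b130 : Block F al 8320 8384 0 :=
  block_of_check (k := 6) rfl (by decide +kernel)

theorem b131 : Block F al 8384 8448 1 :=
  block_of_check (k := 6) rfl (by decide +kernel)

theorem b132 : Block F al 8448 8512 2 :=
  block_of_check (k := 6) rfl (by decide +kernel)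

theorem b133 : Block F al 8512 8576 0 :=
  block_of_check (k := 6) rfl (by decide +kernel)

theorem b134 : Block F al 8576 8640 8 :=
  block_of_check (k := 6) rfl (by decide +kernel)

theorem b135 : Block F al 8640 8704 1 :=
  block_of_check (k := 6) rfl (by decide +kernel)

theorem b136 : Block F al 8704 8768 0 :=
  block_of_check (k := 6) rfl (by decide +kernel)

theorem b137 : Block F al 8768 8832 0 :=
  block_of_check (k := 6) rfl (by decide +kernel)

theorem b138 : Block F al 8832 8896 0 :=
  block_of_check (k := 6) rfl (by decide +kernel)

theorem b139 : Block F al 8896 8960 0 :=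
  block_of_check (k := 6) rfl (by decide +kernel)

theorem b140 : Block F al 8960 9024 0 :=
  block_of_check (k := 6) rfl (by decide +kernel)

theorem b141 : Block F al 9024 9088 1 :=
  block_of_check (k := 6) rfl (by decide +kernel)

theorem b142 : Block F al 9088 9152 0 :=
  block_of_check (k := 6) rfl (by decide +kernel)

theorem b143 : Block F al 9152 9216 3 :=
  block_of_check (k := 6) rfl (by decide +kernel)

theorem b144 : Block F al 9216 9280 1 :=
  block_of_check (k := 6) rfl (by decide +kernel)

theorem b145 : Block F al 9280 9344 0 :=
  block_of_check (k := 6) rfl (by decide +kernel)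

theorem b146 : Block F al 9344 9408 0 :=
  block_of_check (k := 6) rfl (by decide +kernel)

theorem b147 : Block F al 9408 9472 0 :=
  block_of_check (k := 6) rfl (by decide +kernel)

theorem b148 : Block F al 9472 9536 0 :=
  block_of_check (k := 6) rfl (by decide +kernel)

theorem b149 : Block F al 9536 9600 0 :=
  block_of_check (k := 6) rfl (by decide +kernel)

theorem b150 : Block F al 9600 9664 0 :=
  block_of_check (k := 6) rfl (by decide +kernel)

theorem b151 : Block F al 9664 9728 1 :=
  block_of_check (k := 6) rfl (by decide +kernel)

theorem b152 : Block F al 9728 9792 0 :=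
  block_of_check (k := 6) rfl (by decide +kernel)

theorem b153 : Block F al 9792 9856 3 :=
  block_of_check (k := 6) rfl (by decide +kernel)

end Cfsg.Agent.TcData.Suz.R0
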